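import Cfsg.Agent.Lib.Fischer.Refl3
import Cfsg.Agent.Lib.Fischer.Recognition.Pair.Data

/-!
The quadratic form of the root lattice A₆ modulo three and the reflections in its 126 points of norm one.
-/

set_option autoImplicit false
set_option maxRecDepth 100000

namespace CfsgLib.Fischer.Recognition.Pair

open CfsgLib.OrthGen

/-- The vectors. -/
abbrev V : Type := Fin 6 → ZMod 3

/-- The upper triangle of the form. -/
def upper : Matrix (Fin 6) (Fin 6) (ZMod 3) :=
  !![1, 2, 0, 0, 0, 0; 0, 1, 2, 0, 0, 0; 0, 0, 1, 2, 0, 0; 0, 0, 0, 1, 2, 0; 0, 0, 0, 0, 1, 2; 0, 0, 0, 0, 0, 1]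

/-- The form. -/
def form : QuadraticForm (ZMod 3) V := upper.toQuadraticForm'

/-- The value of the form. -/
def formC (x : V) : ZMod 3 :=
  x 0 * x 0 + x 1 * x 1 + x 2 * x 2 + x 3 * x 3 + x 4 * x 4 + x 5 * x 5 +
    2 * (x 0 * x 1 + x 1 * x 2 + x 2 * x 3 + x 3 * x 4 + x 4 * x 5)

/-- The polar form. -/
def polC (x y : V) : ZMod 3 :=
  2 * (x 0 * y 0 + x 1 * y 1 + x 2 * y 2 + x 3 * y 3 + x 4 * y 4 + x 5 * y 5) +
    2 * (x 0 * y 1 + x 1 * y 0 + x 1 * y 2 + x 2 * y 1 + x 2 * y 3 + x 3 * y 2 + x 3 * y 4 + x 4 * y 3 +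
      x 4 * y 5 + x 5 * y 4)

theorem form_apply (x : V) : form x = formC x := by
  unfold form Matrix.toQuadraticForm'
  rw [LinearMap.BilinMap.toQuadraticMap_apply, Matrix.toLinearMap₂'_apply']
  simp [upper, formC, dotProduct, Matrix.mulVec, Fin.sum_univ_succ]
  ring

theorem pf_apply (x y : V) : pf form x y = polC x y := by
  simp only [pf, QuadraticMap.polar, form_apply, formC, polC, Pi.add_apply]
  ring

/-- The vector with a code. -/
def vec (n : ℕ) : V := fun k => ((n / 3 ^ (k : ℕ)) % 3 : ℕ)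

/-- The code of a vector. -/
def codeV (v : V) : ℕ :=
  (v 0).val + 3 * (v 1).val + 9 * (v 2).val + 27 * (v 3).val + 81 * (v 4).val + 243 * (v 5).val

/-- The vector of a member. -/
def vecM (i : Fin 126) : V := vec (vecT.getD i 0)

theorem vec_norm : ∀ i : Fin 126, formC (vecM i) = 1 := by decide +kernel

theorem idx_vec : ∀ i : Fin 126, idxT.getD (codeV (vecM i)) 126 = i ∧ idxT.getD (codeV (-vecM i)) 126 = i := by
  decide +kernel

theorem idx_all : ∀ a b c d e f : ZMod 3, formC ![a, b, c, d, e, f] = 1 →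
    ∃ h : idxT.getD (codeV ![a, b, c, d, e, f]) 126 < 126,
      vecM ⟨_, h⟩ = ![a, b, c, d, e, f] ∨ vecM ⟨_, h⟩ = -![a, b, c, d, e, f] := by
  decide +kernel

theorem refl_step : ∀ k : Fin 7, ∀ i : Fin 126, ∃ h : (conjT.getD k []).getD i 126 < 126,
    vecM i - polC (vecM (k.castLE (by norm_num))) (vecM i) • vecM (k.castLE (by norm_num)) = vecM ⟨_, h⟩ ∨
      vecM i - polC (vecM (k.castLE (by norm_num))) (vecM i) • vecM (k.castLE (by norm_num)) = -vecM ⟨_, h⟩ := by
  decide +kernel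

theorem par_facts : ∀ i : Fin 119, (parT.getD i (7, 0)).1 < 7 ∧ (parT.getD i (7, 0)).2 < i + 7 ∧
    (conjT.getD (parT.getD i (7, 0)).1 []).getD (parT.getD i (7, 0)).2 126 = i + 7 := by
  decide +kernel

/-- The conjugation by a generator on the members. -/
def conjM (k : Fin 7) (i : Fin 126) : Fin 126 := ⟨_, (refl_step k i).1⟩

theorem nondegenerate_check : ∀ a b c d e f : ZMod 3,
    (∀ j : Fin 6, polC ![a, b, c, d, e, f] (Pi.single j 1) = 0) → ![a, b, c, d, e, f] = 0 := by
  decide +kernel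

theorem eq_six (v : V) : v = ![v 0, v 1, v 2, v 3, v 4, v 5] := by
  funext j; fin_cases j <;> rfl

theorem nondegenerate : (QuadraticMap.polarBilin form).Nondegenerate := by
  have h : ∀ x : V, (∀ y, pf form x y = 0) → x = 0 := fun x hx => by
    rw [eq_six x]
    refine nondegenerate_check _ _ _ _ _ _ fun j => ?_
    rw [← eq_six x, ← pf_apply]
    exact hx _
  exact ⟨fun x hx => h x hx, fun y hy => h y fun x => by rw [pf_comm]; exact hy x⟩

/-- The polar Gram matrix. -/
def gram : Matrix (Fin 6) (Fin 6) (ZMod 3) :=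
  !![2, 2, 0, 0, 0, 0; 2, 2, 2, 0, 0, 0; 0, 2, 2, 2, 0, 0; 0, 0, 2, 2, 2, 0; 0, 0, 0, 2, 2, 2; 0, 0, 0, 0, 2, 2]

theorem det_gram : gram.det = 1 := by decide +kernel

theorem gram_apply (i j : Fin 6) : pf form (Pi.single i 1) (Pi.single j 1) = gram i j := by
  rw [pf_apply]
  fin_cases i <;> fin_cases j <;> simp [gram, polC]

theorem gram_det : Cfsg.polarGramDet (⇑form) = 1 := by
  have h : (Matrix.of fun i j : Fin 6 => QuadraticMap.polar (⇑form) (Pi.single i 1) (Pi.single j 1)) = gram := by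
    refine Matrix.ext fun i j => ?_
    rw [Matrix.of_apply]
    exact gram_apply i j
  rw [Cfsg.polarGramDet, h]
  exact det_gram

theorem norm_ne (i : Fin 126) : form (vecM i) ≠ 0 := by
  rw [form_apply, vec_norm]; exact one_ne_zero

/-- The reflection of a member. -/
noncomputable def rfl' (i : Fin 126) : Cfsg.reflectionSubgroup (⇑form) (1 : ZMod 3) :=
  ⟨refl form (norm_ne i), Refl3.refl_mem (norm_ne i) ((form_apply _).trans (vec_norm i))⟩

theorem rfl'_injective : Function.Injective rfl' := fun i j h => by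
  have he : refl form (norm_ne i) = refl form (norm_ne j) := congrArg Subtype.val h
  refine Fin.ext ?_
  rcases Refl3.eq_or_neg_of_refl_eq (norm_ne i) (norm_ne j)
    (by rw [form_apply, form_apply, vec_norm, vec_norm]) he with e | e
  · rw [← (idx_vec i).1, ← e, (idx_vec j).1]
  · rw [← (idx_vec i).2, ← e, (idx_vec j).1]

theorem closure_rfl' : Subgroup.closure (Set.range rfl') = ⊤ := by
  rw [eq_top_iff, ← Refl3.closure_eq_top, Subgroup.closure_le]
  intro g hg
  obtain ⟨v, hv0, hv, he⟩ := (Refl3.mem_iff one_ne_zero).1 hg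
  rw [form_apply, eq_six v] at hv
  obtain ⟨h, hh⟩ := idx_all _ _ _ _ _ _ hv
  refine Subgroup.subset_closure ⟨⟨_, h⟩, Subtype.ext ?_⟩
  show refl form (norm_ne _) = (g : Cfsg.isometryGroup (ZMod 3) (⇑form))
  rw [he]
  refine Refl3.refl_congr _ hv0 ?_
  simp only [← eq_six v] at hh ⊢
  exact hh

theorem rfl'_conj (k : Fin 7) (i : Fin 126) :
    rfl' (k.castLE (by norm_num)) * rfl' i * (rfl' (k.castLE (by norm_num)))⁻¹ = rfl' (conjM k i) := by
  refine Subtype.ext ?_
  show refl form (norm_ne (k.castLE (by norm_num))) * refl form (norm_ne i) *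
    (refl form (norm_ne (k.castLE (by norm_num))))⁻¹ = refl form (norm_ne (conjM k i))
  rw [conj_refl]
  refine Refl3.refl_congr _ _ ?_
  rw [act_refl, pf_apply, form_apply, vec_norm, inv_one, one_mul]
  exact (refl_step k i).2

end CfsgLib.Fischer.Recognition.Pair
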